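import Mathlib

/-!
# Morphisms with affine diagonal (helper5)

Basic stability properties of the class of morphisms of schemes whose diagonal is affine.
-/
set_option autoImplicit false
universe u
open CategoryTheory CategoryTheory.Limits AlgebraicGeometry

namespace Groth.Agent.Lib.Helper5.KunAD

/-- cancellation: `g ≫ f` affine and `f` with affine diagonal imply `g` affine -/
theorem isAffineHom_of_comp {X Y Z : Scheme.{u}} (g : X ⟶ Y) (f : Y ⟶ Z)
    [IsAffineHom (pullback.diagonal f)] [IsAffineHom (g ≫ f)] : IsAffineHom g := by
  haveI : MorphismProperty.HasOfPostcompProperty @IsAffineHom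
      (MorphismProperty.diagonal @IsAffineHom) :=
    MorphismProperty.hasOfPostcompProperty_iff_le_diagonal.mpr le_rfl
  exact MorphismProperty.of_postcomp (W := @IsAffineHom)
    (W' := MorphismProperty.diagonal @IsAffineHom) g f
    (show IsAffineHom (pullback.diagonal f) from inferInstance) inferInstance

/-- a morphism with affine diagonal is quasi-separated -/
theorem quasiSeparated {X Y : Scheme.{u}} (f : X ⟶ Y) [IsAffineHom (pullback.diagonal f)] :
    QuasiSeparated f := ⟨inferInstance⟩

/-- affine diagonal is stable under base change -/
theorem of_isPullback {X Y X' Y' : Scheme.{u}} {f : X ⟶ Y} {g : Y' ⟶ Y} {f' : X' ⟶ Y'}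
    {g' : X' ⟶ X} (hsq : IsPullback g' f' f g) [IsAffineHom (pullback.diagonal f)] :
    IsAffineHom (pullback.diagonal f') :=
  MorphismProperty.of_isPullback (P := MorphismProperty.diagonal @IsAffineHom) hsq
    (show IsAffineHom (pullback.diagonal f) from inferInstance)

/-- affine diagonal is stable under composition -/
theorem comp {X Y Z : Scheme.{u}} (g : X ⟶ Y) (f : Y ⟶ Z)
    [IsAffineHom (pullback.diagonal g)] [IsAffineHom (pullback.diagonal f)] :
    IsAffineHom (pullback.diagonal (g ≫ f)) :=
  (MorphismProperty.diagonal @IsAffineHom).comp_mem g f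
    (show IsAffineHom (pullback.diagonal g) from inferInstance)
    (show IsAffineHom (pullback.diagonal f) from inferInstance)

/-- affine opens of a scheme with affine diagonal over an affine scheme are stable under
intersections -/
theorem isAffineOpen_inf {X Y : Scheme.{u}} [IsAffine Y] (f : X ⟶ Y)
    [IsAffineHom (pullback.diagonal f)] {U V : X.Opens}
    (hU : IsAffineOpen U) (hV : IsAffineOpen V) : IsAffineOpen (U ⊓ V) := by
  have h : IsAffineHom (pullback.diagonal f) := inferInstance
  exact isAffineHom_diagonal_iff.mp h ⊤ (isAffineOpen_top Y) U (by simp) V (by simp) hU hV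

end Groth.Agent.Lib.Helper5.KunAD
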