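import Mathlib
import Groth.Prelude.Def_HTor
import Groth.Agent.Lib.Helper1.GammaDer1
import Groth.Agent.Lib.Helper5.MV.TotalRDCd
import Groth.Agent.Lib.Helper5.FBC.HHBridge

/-!
# Sheaf cohomology modules and `RΓ(X, -)` with values in `D(A)`, no separation hypothesis
(helper5)

For any scheme `X` over `Spec A` and any `O_X`-module `M`, the `A`-module `H^n(X, M)` is the
`n`-th cohomology module of `RΓ(X, M[0]) ∈ D(A)`.
-/
set_option autoImplicit false
set_option linter.unusedSectionVars false
set_option linter.unusedVariables false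
set_option linter.style.haveILetI false
universe u
open CategoryTheory CategoryTheory.Limits HomologicalComplex AlgebraicGeometry Opposite
attribute [local instance] HasDerivedCategory.standard

namespace Groth.Agent.Lib.Helper5.KunAD

open Groth.Agent.Lib.Helper5.HTorLib Groth.Agent.Lib.Helper5.QC Groth.Agent.Helper3.KInjDer
  Groth.Agent.Lib.Helper5.RpushClassic Groth.Agent.Lib.Helper5.BvdB
  Groth.Agent.Lib.Helper4.HModDelta1 Groth.Agent.Lib.Helper4.QCohAb1

variable (A : Type u) [CommRing A] (X : Scheme.{u}) [X.Over (Spec (CommRingCat.of A))]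
  [HTor.HasRΓA (X ↘ Spec (CommRingCat.of A))]

/-- **`H^n(X, M) ≅ H^n(RΓ(X, M[0]))`** as `A`-modules, for every `O_X`-module `M` -/
theorem nonempty_HModF_iso' (M : X.Modules) (n : ℕ) :
    Nonempty ((HModF A X n).obj M ≅
      (DerivedCategory.homologyFunctor (ModuleCat.{u} A) (n : ℤ)).obj
        ((HTor.RΓA (X ↘ Spec (CommRingCat.of A))).obj (DCoh.inD X M))) := by
  haveI : HasInjectiveResolutions X.Modules := inferInstance
  let f := X ↘ Spec (CommRingCat.of A)
  let R : InjectiveResolution M := injectiveResolution M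
  let e1 : (HModF A X n).obj M ≅ ((HTor.globalSectionsA f).rightDerived n).obj M :=
    ((Groth.Agent.Helper1.GammaDer.gammaDerivedIso A X n).app M).symm
  let e2 := Groth.Agent.Lib.Helper5.TotalRD.homologyIsoRightDerived (HTor.globalSectionsA f) R n
  let e3 := Groth.Agent.Lib.Helper5.TotalRD.homologyRfSingleIso (HTor.globalSectionsA f) R 0
    (n : ℤ) (n : ℤ) (by omega)
  exact ⟨e1 ≪≫ e2.symm ≪≫ e3.symm⟩

end Groth.Agent.Lib.Helper5.KunAD
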