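import Mathlib
import Groth.Prelude.Def_HTor
import Groth.Agent.Lib.Helper5.FBC.Kunneth
import Groth.Agent.Lib.Helper5.KunAD.Basic

/-!
# The Künneth formula over an affine base, derived form, for morphisms with affine diagonal
(helper5)

Copies of `FBC.isIso_betaK_of_flat`, `FBC.nonempty_rpush_extTensor_iso`, `FBC.computes_kunneth`
with `IsSeparated` weakened to affine diagonal / quasi-separated.
-/
set_option backward.isDefEq.respectTransparency.types false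
set_option synthInstance.maxHeartbeats 400000
set_option autoImplicit false
set_option linter.unusedSectionVars false
set_option linter.unusedVariables false
set_option linter.style.haveILetI false
universe u
open CategoryTheory CategoryTheory.Limits AlgebraicGeometry Pretriangulated TopologicalSpace
attribute [local instance] HasDerivedCategory.standard

namespace Groth.Agent.Lib.Helper5.KunAD

open Groth.Agent.Lib.Helper5.FBC
open Groth.Agent.Lib.Helper5.BC Groth.Agent.Lib.Helper5.LpullLib Groth.Agent.Helper3.KInjDer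
open Groth.Agent.Lib.Helper5.PullTenNat Groth.Agent.Lib.Helper5.ProjF
open Groth.Agent.Lib.Helper5.RHomQC Helper5.Gen Groth.Agent.Helper1
open Groth.Agent.Lib.Helper5.QC Groth.Agent.Lib.Helper5.HTorLib Groth.Agent.Lib.Helper5.FibStalk
open Groth.Agent.Lib.Helper5.ProjF3

section TheoremB

variable {X Y X' Y' : Scheme.{u}} {f : X ⟶ Y} {g : Y' ⟶ Y} {f' : X' ⟶ Y'} {g' : X' ⟶ X}

/-- **base change for a bounded above complex of quasi-coherent modules flat over an affine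
base** -/
theorem isIso_betaK_of_flat' (hsq : IsPullback g' f' f g) [IsAffine Y] [QuasiCompact f]
    [IsAffineHom (pullback.diagonal f)] (P : CochainComplex X.Modules ℤ)
    (hq : ∀ i : ℤ, (P.X i).IsQuasicoherent) (hfl : ∀ i : ℤ, FlatMod.IsFlatOver f (P.X i))
    (b : ℤ) (hb : ∀ i : ℤ, b < i → IsZero (P.X i)) :
    IsIso (betaK hsq.w ((HomotopyCategory.quotient X.Modules (ComplexShape.up ℤ)).obj P)) := by
  haveI : DCoh.HasLTensorCx P := Groth.Agent.Lib.Helper5.LTenAll.hasLTensorCx _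
  haveI : DCoh.HasLTensorCx (fL g' P) := Groth.Agent.Lib.Helper5.LTenAll.hasLTensorCx _
  haveI : CompactSpace X := QuasiCompact.compactSpace_of_compactSpace f
  haveI : QuasiSeparated f := Groth.Agent.Lib.Helper5.KunAD.quasiSeparated f
  haveI : QuasiSeparatedSpace X := quasiSeparatedSpace_of_quasiSeparated f
  have key : IsIso ((tau hsq.w P).app (OO X 0)) := by
    apply isIso_tau_of_affine_opens hsq.w P (OO X 0)
    intro W hW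
    haveI : IsAffine (W : Scheme.{u}) := hW
    haveI : IsAffineHom (W.ι ≫ f) := isAffineHom_of_isAffine _
    haveI : IsAffineHom W.ι := Groth.Agent.Lib.Helper5.KunAD.isAffineHom_of_comp W.ι f
    exact isoLocus_tau_base hsq W P hq hfl b hb
  have h2 : IsIso ((tau hsq.w P).app (DerivedCategory.Q.obj (OCx X 0))) :=
    Helper5.Gen.isIso_app_of_iso (tau hsq.w P)
      ((DerivedCategory.singleFunctorIsoCompQ X.Modules 0).app (Coh.structureModule X)) key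
  have hKF : DCoh.IsKFlat (OCx X 0) :=
    Groth.Agent.Lib.Helper5.LTenDer.isKFlat_of_isStrictlyPerfect _ (isStrictlyPerfect_OCx 0)
  have h3 := (isIso_tau_app_Q_iff hsq.w P (OCx X 0) hKF).1 h2
  exact isIso_betaK_of_iso hsq.w
    ((HomotopyCategory.quotient X.Modules (ComplexShape.up ℤ)).mapIso (tensorCxUnitIso P)) h3

end TheoremB

section Rel

variable {X₁ X₂ S : Scheme.{u}} (f₁ : X₁ ⟶ S) (f₂ : X₂ ⟶ S)

/-- **the relative Künneth isomorphism, first half**: for `P₁` flat over the base,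
`Rpr₂_* (pr₁^* P₁ ⊗ pr₂^* P₂) ≅ Rpr₂_* (pr₁^* P₁) ⊗^L P₂` -/
theorem nonempty_rpush_extTensor_iso' [QuasiCompact f₁] [QuasiSeparated f₁]
    (P₁ : CochainComplex X₁.Modules ℤ) (P₂ : CochainComplex X₂.Modules ℤ)
    (hq₁ : ∀ i : ℤ, (P₁.X i).IsQuasicoherent) (hq₂ : ∀ i : ℤ, (P₂.X i).IsQuasicoherent)
    (b₁ : ℤ) (hb₁ : ∀ i : ℤ, b₁ < i → IsZero (P₁.X i))
    (hfl : ∀ i : ℤ, FlatMod.IsFlatOver f₁ (P₁.X i)) [DCoh.HasLTensorCx P₂] :
    Nonempty ((DCoh.Rpush (pullback.snd f₁ f₂)).obj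
        (DCoh.toD _ (HTor.extTensorCx f₁ f₂ P₁ P₂)) ≅
      (DCoh.LTensorCx P₂).obj ((DCoh.Rpush (pullback.snd f₁ f₂)).obj
        (DCoh.toD _ ((HTor.pullCx (pullback.fst f₁ f₂)).obj P₁)))) := by
  let p₁ := pullback.fst f₁ f₂
  let p₂ := pullback.snd f₁ f₂
  have hsq : IsPullback p₁ p₂ f₁ f₂ := IsPullback.of_hasPullback f₁ f₂
  let G₁ := (HTor.pullCx p₁).obj P₁
  obtain ⟨F₂, α, hF₂, hα⟩ := kflat_res P₂
  have hfl' : ∀ i : ℤ, FlatMod.IsFlatOver p₂ (G₁.X i) := fun i x' => by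
    haveI := hq₁ i
    exact Groth.Agent.Lead.FB.flat_baseChange hsq (P₁.X i) x' (hfl i _)
  have hbG₁ : ∀ i : ℤ, b₁ < i → IsZero (G₁.X i) := fun i hi =>
    Functor.map_isZero (Scheme.Modules.pullback p₁) (hb₁ i hi)
  have hkfs : KFS p₂ G₁ := kfs_of_flat_terms p₂ G₁ b₁ hbG₁ hfl'
  have hqi := quasiIso_tensor_pull_of_kfs p₂ G₁ hkfs α hα
  haveI : IsIso (DerivedCategory.Q.map ((DCoh.tensorCx.obj G₁).map ((HTor.pullCx p₂).map α))) :=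
    (DerivedCategory.isIso_Q_map_iff_quasiIso _ _).2 hqi
  let M := (HTor.pullCx p₂).obj F₂
  have hM : DCoh.IsKFlat M := Groth.Agent.Lib.Helper5.KFlatPull.isKFlat_pullback p₂ _ hF₂
  haveI : DCoh.HasLTensorCx M := Groth.Agent.Lib.Helper5.LTenAll.hasLTensorCx _
  let r2 : DCoh.toD _ ((DCoh.tensorCx.obj G₁).obj M) ≅
      DCoh.toD _ (HTor.extTensorCx f₁ f₂ P₁ P₂) :=
    asIso (DerivedCategory.Q.map ((DCoh.tensorCx.obj G₁).map ((HTor.pullCx p₂).map α)))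
  obtain ⟨r1⟩ := Groth.Agent.Lib.Helper5.LTenTri.nonempty_ltensor_iso M M hM (𝟙 _) inferInstance G₁
  haveI : IsIso (DerivedCategory.Q.map α) := (DerivedCategory.isIso_Q_map_iff_quasiIso _ _).2 hα
  let eM : DCoh.toD _ M ≅ (DCoh.Lpull p₂).obj (DCoh.toD _ P₂) :=
    (Groth.Agent.Lib.Helper5.ProjF.lpullObjIsoKF p₂ F₂ hF₂).symm ≪≫
      (DCoh.Lpull p₂).mapIso (asIso (DerivedCategory.Q.map α))
  have hG₁q : DCoh.IsQCohD (DCoh.toD _ G₁) :=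
    (isQCohD_Q_iff G₁).2 (isQuasicoherent_homology_of_terms G₁ (fun i => by
      haveI := hq₁ i
      exact QcPullGen.isQuasicoherent_pullback p₁ (P₁.X i)))
  have hP₂q : DCoh.IsQCohD (DCoh.toD _ P₂) :=
    (isQCohD_Q_iff P₂).2 (isQuasicoherent_homology_of_terms P₂ hq₂)
  obtain ⟨pfi⟩ := nonempty_projFormula_qcoh p₂ (DCoh.toD _ G₁) hG₁q P₂ hP₂q M ⟨eM⟩
  exact ⟨(DCoh.Rpush p₂).mapIso (r2.symm ≪≫ r1.symm) ≪≫ pfi.symm⟩

end Rel

section Affine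

/-- **Künneth formula over an affine base, derived form** -/
theorem computes_kunneth' (A : Type u) [CommRing A] (X₁ X₂ : Scheme.{u})
    (f₁ : X₁ ⟶ Spec (CommRingCat.of A)) (f₂ : X₂ ⟶ Spec (CommRingCat.of A))
    [QuasiCompact f₁] [IsAffineHom (pullback.diagonal f₁)] [QuasiCompact f₂] [QuasiSeparated f₂]
    [HTor.HasRΓA f₁] [HTor.HasRΓA f₂] [HTor.HasRΓA (pullback.fst f₁ f₂ ≫ f₁)]
    (P₁ : CochainComplex X₁.Modules ℤ) (P₂ : CochainComplex X₂.Modules ℤ)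
    (hq₁ : ∀ i : ℤ, Coh.IsQCoh (P₁.X i)) (hq₂ : ∀ i : ℤ, Coh.IsQCoh (P₂.X i))
    (b₁ : ∃ b : ℤ, ∀ i : ℤ, b < i → IsZero (P₁.X i)) (b₂ : ∃ b : ℤ, ∀ i : ℤ, b < i → IsZero (P₂.X i))
    (hfl : ∀ i : ℤ, FlatMod.IsFlatOver f₁ (P₁.X i))
    (L₁ L₂ : DRing.Cx A) (hL₁ : ∀ i : ℤ, Projective (L₁.X i)) (hL₂ : ∀ i : ℤ, Projective (L₂.X i))
    (c₁ : ∃ c : ℤ, DRing.VanishesAbove L₁ c) (c₂ : ∃ c : ℤ, DRing.VanishesAbove L₂ c)
    (e₁ : HTor.Computes f₁ L₁ (DCoh.toD X₁ P₁)) (e₂ : HTor.Computes f₂ L₂ (DCoh.toD X₂ P₂)) :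
    HTor.Computes (pullback.fst f₁ f₂ ≫ f₁) (HTor.tensorCx L₁ L₂)
      (DCoh.toD (pullback f₁ f₂) (HTor.extTensorCx f₁ f₂ P₁ P₂)) := by
  classical
  haveI : QuasiSeparated f₁ := Groth.Agent.Lib.Helper5.KunAD.quasiSeparated f₁
  obtain ⟨bp₁, hbp₁⟩ := b₁
  obtain ⟨cL₁, hcL₁⟩ := c₁
  obtain ⟨cL₂, hcL₂⟩ := c₂
  let p₁ := pullback.fst f₁ f₂
  let p₂ := pullback.snd f₁ f₂
  have hsq : IsPullback p₁ p₂ f₁ f₂ := IsPullback.of_hasPullback f₁ f₂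
  let tC := (tilde.functor (CommRingCat.of A)).mapHomologicalComplex (ComplexShape.up ℤ)
  have hLk₁ : DRing.IsKFlat A L₁ := Groth.Agent.Lib.Helper5.KFlat.isKFlat_of_bounded_above L₁ cL₁
    hcL₁ (Groth.Agent.Helper5.TorAmp.termwiseFlat_of_projective L₁ hL₁)
  have hLk₂ : DRing.IsKFlat A L₂ := Groth.Agent.Lib.Helper5.KFlat.isKFlat_of_bounded_above L₂ cL₂
    hcL₂ (Groth.Agent.Helper5.TorAmp.termwiseFlat_of_projective L₂ hL₂)
  have htL₁ : DCoh.IsKFlat (tC.obj L₁) :=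
    Groth.Agent.Lib.Helper5.TildeStalk.isKFlat_tilde (CommRingCat.of A) L₁ hLk₁
  have htL₂ : DCoh.IsKFlat (tC.obj L₂) :=
    Groth.Agent.Lib.Helper5.TildeStalk.isKFlat_tilde (CommRingCat.of A) L₂ hLk₂
  have hP₁q : DCoh.IsQCohD (DCoh.toD X₁ P₁) :=
    (isQCohD_Q_iff P₁).2 (isQuasicoherent_homology_of_terms P₁ hq₁)
  have hP₂q : DCoh.IsQCohD (DCoh.toD X₂ P₂) :=
    (isQCohD_Q_iff P₂).2 (isQuasicoherent_homology_of_terms P₂ hq₂)
  have hRq₁ : DCoh.IsQCohD ((DCoh.Rpush f₁).obj (DCoh.toD X₁ P₁)) := isQCohD_rpush f₁ _ hP₁q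
  have hRq₂ : DCoh.IsQCohD ((DCoh.Rpush f₂).obj (DCoh.toD X₂ P₂)) := isQCohD_rpush f₂ _ hP₂q
  obtain ⟨l1₁⟩ := (computes_iff f₁ L₁ (DCoh.toD X₁ P₁) hRq₁).1 e₁
  obtain ⟨l1₂⟩ := (computes_iff f₂ L₂ (DCoh.toD X₂ P₂) hRq₂).1 e₂
  let l2₁ : (DCoh.tildeD (CommRingCat.of A)).obj (DRing.toD L₁) ≅ DCoh.toD _ (tC.obj L₁) :=
    (tilde.functor (CommRingCat.of A)).mapDerivedCategoryFactors.app L₁
  let l2₂ : (DCoh.tildeD (CommRingCat.of A)).obj (DRing.toD L₂) ≅ DCoh.toD _ (tC.obj L₂) :=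
    (tilde.functor (CommRingCat.of A)).mapDerivedCategoryFactors.app L₂
  haveI : DCoh.HasLTensorCx P₂ := Groth.Agent.Lib.Helper5.LTenAll.hasLTensorCx _
  -- first half
  obtain ⟨u1⟩ := nonempty_rpush_extTensor_iso' f₁ f₂ P₁ P₂ hq₁ hq₂ bp₁ hbp₁ hfl
  -- Theorem B
  haveI hB : IsIso (betaK hsq.w ((HomotopyCategory.quotient X₁.Modules (ComplexShape.up ℤ)).obj P₁)) :=
    isIso_betaK_of_flat' hsq P₁ hq₁ hfl bp₁ hbp₁
  let G₁ := (HTor.pullCx p₁).obj P₁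
  let β : (DCoh.Lpull f₂).obj ((DCoh.Rpush f₁).obj (DCoh.toD X₁ P₁)) ≅
      (DCoh.Rpush p₂).obj (DCoh.toD _ G₁) :=
    @asIso _ _ _ _
      (betaK hsq.w ((HomotopyCategory.quotient X₁.Modules (ComplexShape.up ℤ)).obj P₁)) hB
  let N := ((Scheme.Modules.pullback f₂).mapHomologicalComplex (ComplexShape.up ℤ)).obj (tC.obj L₁)
  have hN : DCoh.IsKFlat N := Groth.Agent.Lib.Helper5.KFlatPull.isKFlat_pullback f₂ _ htL₁
  let w₁ : DCoh.toD _ N ≅ (DCoh.Rpush p₂).obj (DCoh.toD _ G₁) :=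
    (Groth.Agent.Lib.Helper5.ProjF.lpullObjIsoKF f₂ (tC.obj L₁) htL₁).symm ≪≫
      (DCoh.Lpull f₂).mapIso (l2₁.symm ≪≫ l1₁) ≪≫ β
  let u2 : (DCoh.LTensorCx P₂).obj ((DCoh.Rpush p₂).obj (DCoh.toD _ G₁)) ≅
      DCoh.toD _ ((DCoh.tensorCx.obj N).obj P₂) :=
    (DCoh.LTensorCx P₂).mapIso w₁.symm ≪≫
      Groth.Agent.Lib.Helper5.LTenAll.ltensorObjIsoOfKFlat (E := P₂) N hN
  -- second half
  let br : (DCoh.tensorCx.obj N).obj P₂ ≅ (DCoh.tensorCx.obj P₂).obj N :=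
    Groth.Agent.Lib.Helper5.KFlatG.braid (ModSite.tensorBi X₂.sheaf)
      (Groth.Agent.Lib.Helper5.KFlatSiteQ.flipIso X₂.sheaf) N P₂
  haveI : DCoh.HasLTensorCx N := Groth.Agent.Lib.Helper5.LTenAll.hasLTensorCx _
  haveI : DCoh.HasLTensorCx (tC.obj L₁) := Groth.Agent.Lib.Helper5.LTenAll.hasLTensorCx _
  obtain ⟨r1'⟩ := Groth.Agent.Lib.Helper5.LTenTri.nonempty_ltensor_iso N N hN (𝟙 _) inferInstance P₂
  let eM' : DCoh.toD _ N ≅ (DCoh.Lpull f₂).obj (DCoh.toD _ (tC.obj L₁)) :=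
    (Groth.Agent.Lib.Helper5.ProjF.lpullObjIsoKF f₂ (tC.obj L₁) htL₁).symm
  have hq' : DCoh.IsQCohD (DCoh.toD _ (tC.obj L₁)) :=
    (isQCohD_Q_iff _).2 (isQuasicoherent_homology_of_terms _ (fun n =>
      isQuasicoherent_tilde_obj (CommRingCat.of A) (L₁.X n)))
  obtain ⟨pfi'⟩ := nonempty_projFormula_qcoh f₂ (DCoh.toD X₂ P₂) hP₂q (tC.obj L₁) hq' N ⟨eM'⟩
  let l3 := Groth.Agent.Lib.Helper5.LTenAll.ltensorObjIsoOfKFlat (tC.obj L₁) (tC.obj L₂) htL₂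
  let l4 : DCoh.toD _ ((DCoh.tensorCx.obj (tC.obj L₂)).obj (tC.obj L₁)) ≅
      DCoh.toD _ (tC.obj (HTor.tensorCx L₂ L₁)) :=
    DerivedCategory.Q.mapIso (tildeTotIso A L₂ L₁).symm
  let l4' : DCoh.toD _ (tC.obj (HTor.tensorCx L₂ L₁)) ≅
      DCoh.toD _ (tC.obj (HTor.tensorCx L₁ L₂)) :=
    DerivedCategory.Q.mapIso (tC.mapIso (DTen.braidCx L₂ L₁))
  let l5 : (DCoh.tildeD (CommRingCat.of A)).obj (DRing.toD (HTor.tensorCx L₁ L₂)) ≅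
      DCoh.toD _ (tC.obj (HTor.tensorCx L₁ L₂)) :=
    (tilde.functor (CommRingCat.of A)).mapDerivedCategoryFactors.app _
  let v : (DCoh.Rpush f₂).obj (DCoh.toD _ ((DCoh.tensorCx.obj N).obj P₂)) ≅
      (DCoh.tildeD (CommRingCat.of A)).obj (DRing.toD (HTor.tensorCx L₁ L₂)) :=
    (DCoh.Rpush f₂).mapIso (DerivedCategory.Q.mapIso br ≪≫ r1'.symm) ≪≫ pfi'.symm ≪≫
      (DCoh.LTensorCx (tC.obj L₁)).mapIso (l1₂.symm ≪≫ l2₂) ≪≫ l3 ≪≫ l4 ≪≫ l4' ≪≫ l5.symm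
  let ι : (DCoh.tildeD (CommRingCat.of A)).obj (DRing.toD (HTor.tensorCx L₁ L₂)) ≅
      (DCoh.Rpush (p₁ ≫ f₁)).obj (DCoh.toD _ (HTor.extTensorCx f₁ f₂ P₁ P₂)) :=
    v.symm ≪≫ (DCoh.Rpush f₂).mapIso (u1 ≪≫ u2).symm ≪≫
      ((rC p₂ f₂).app _).symm ≪≫ (rpushCongrObj (pullback.condition (f := f₁) (g := f₂)) _).symm
  have hK2 : DCoh.IsQCohD ((DCoh.Rpush (p₁ ≫ f₁)).obj
      (DCoh.toD _ (HTor.extTensorCx f₁ f₂ P₁ P₂))) :=
    ((tildeD_main (CommRingCat.of A)).2.2 _).2 ⟨_, ⟨ι⟩⟩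
  exact (computes_iff (p₁ ≫ f₁) _ _ hK2).2 ⟨ι⟩

end Affine

end Groth.Agent.Lib.Helper5.KunAD
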