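import Mathlib
import Groth.Prelude.Def_HTor
import Groth.Agent.Lib.Helper5.FBC.KunnethHH
import Groth.Agent.Lib.Helper5.KunAD.Kunneth
import Groth.Agent.Lib.Helper5.KunAD.Bridge

/-!
# The Künneth formula for sheaf cohomology modules with flat cohomology, for quasi-compact schemes
with affine diagonal over an affine base, as a linear equivalence (helper5)
-/
set_option autoImplicit false
set_option linter.unusedSectionVars false
set_option linter.unusedVariables false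
set_option linter.style.haveILetI false
universe u
open CategoryTheory CategoryTheory.Limits HomologicalComplex AlgebraicGeometry Opposite
open TensorProduct
attribute [local instance] HasDerivedCategory.standard

namespace Groth.Agent.Lib.Helper5.KunAD

open Groth.Agent.Lib.Helper5.FBC
open Groth.Agent.Lib.Helper5.HTorLib Groth.Agent.Lib.Helper5.QC Groth.Agent.Helper3.KInjDer
  Groth.Agent.Lib.Helper5.RpushClassic Groth.Agent.Lib.Helper5.Approx
  Groth.Agent.Lib.Helper4.HModDelta1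

section Reindex

/-- a direct sum whose summands vanish outside the image of a finite index set is the product over
that index set, linearly -/
theorem nonempty_directSum_linearEquiv_pi {R : Type*} [CommRing R] {ι κ : Type*} [Fintype ι]
    [DecidableEq ι] [DecidableEq κ]
    (T : κ → Type*) [∀ k, AddCommGroup (T k)] [∀ k, Module R (T k)]
    (T' : ι → Type*) [∀ i, AddCommGroup (T' i)] [∀ i, Module R (T' i)]
    (e : ι → κ) (he : Function.Injective e)
    (hz : ∀ k, k ∉ Set.range e → Subsingleton (T k))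
    (t : ∀ i, T (e i) ≃ₗ[R] T' i) :
    Nonempty (DirectSum κ T ≃ₗ[R] (Π i, T' i)) := by
  let g : (Π₀ k, T k) →ₗ[R] Π₀ i, T (e i) :=
    { toFun := DFinsupp.comapDomain e he
      map_add' := DFinsupp.comapDomain_add e he
      map_smul' := fun r x => DFinsupp.comapDomain_smul e he r x }
  have hg : Function.Bijective g := by
    constructor
    · intro x y hxy
      ext k
      by_cases hk : k ∈ Set.range e
      · obtain ⟨i, rfl⟩ := hk
        have := DFunLike.congr_fun hxy i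
        change DFinsupp.comapDomain e he x i = DFinsupp.comapDomain e he y i at this
        rwa [DFinsupp.comapDomain_apply, DFinsupp.comapDomain_apply] at this
      · haveI := hz k hk
        exact Subsingleton.elim _ _
    · intro y
      induction y using DFinsupp.induction with
      | h0 => exact ⟨0, map_zero g⟩
      | ha i b f _ _ ih =>
        obtain ⟨x, hx⟩ := ih
        refine ⟨DFinsupp.single (e i) b + x, ?_⟩
        rw [map_add, hx]
        congr 1
        exact DFinsupp.comapDomain_single e he i b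
  let E1 : DirectSum κ T ≃ₗ[R] DirectSum ι (fun i => T (e i)) := LinearEquiv.ofBijective g hg
  exact ⟨E1.trans ((DirectSum.linearEquivFunOnFintype R ι (fun i => T (e i))).trans
    (LinearEquiv.piCongrRight t))⟩

end Reindex

section Main

variable (A : Type u) [CommRing A] (X₁ X₂ : Scheme.{u})
  [X₁.Over (Spec (CommRingCat.of A))] [X₂.Over (Spec (CommRingCat.of A))]
  [QuasiCompact (X₁ ↘ Spec (CommRingCat.of A))]
  [IsAffineHom (pullback.diagonal (X₁ ↘ Spec (CommRingCat.of A)))]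
  [QuasiCompact (X₂ ↘ Spec (CommRingCat.of A))] [QuasiSeparated (X₂ ↘ Spec (CommRingCat.of A))]

/-- a bounded above projective complex computing `RΓ(X, M[0])`, with its cohomology modules -/
theorem exists_proj_computes' (X : Scheme.{u}) [X.Over (Spec (CommRingCat.of A))]
    [QuasiCompact (X ↘ Spec (CommRingCat.of A))] [QuasiSeparated (X ↘ Spec (CommRingCat.of A))]
    [HTor.HasRΓA (X ↘ Spec (CommRingCat.of A))] (M : X.Modules) [M.IsQuasicoherent] :
    ∃ (L : DRing.Cx A) (c : ℤ), DRing.VanishesAbove L c ∧ (∀ i, Projective (L.X i)) ∧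
      Nonempty (DRing.toD L ≅ (HTor.RΓA (X ↘ Spec (CommRingCat.of A))).obj (DCoh.inD X M)) ∧
      (∀ p : ℕ, Nonempty (L.homology (p : ℤ) ≃ₗ[A] Coh.HH X M p)) ∧
      (∀ i : ℤ, i < 0 → IsZero (L.homology i)) := by
  let f := X ↘ Spec (CommRingCat.of A)
  obtain ⟨c, hc⟩ := exists_isLE_rgammaA_inD f M
  haveI := hc
  obtain ⟨L, hL, hproj, -, ⟨e⟩⟩ :=
    Groth.Agent.Helper5.TorAmp.exists_proj_rep ((HTor.RΓA f).obj (DCoh.inD X M)) c
  have hh : ∀ i : ℤ, Nonempty (L.homology i ≅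
      (DerivedCategory.homologyFunctor (ModuleCat.{u} A) i).obj
        ((HTor.RΓA f).obj (DCoh.inD X M))) := fun i =>
    ⟨((DerivedCategory.homologyFunctorFactors (ModuleCat.{u} A) i).app L).symm ≪≫
      (DerivedCategory.homologyFunctor (ModuleCat.{u} A) i).mapIso e⟩
  refine ⟨L, c, hL, hproj, ⟨e⟩, fun p => ?_, fun i hi => ?_⟩
  · obtain ⟨e1⟩ := hh (p : ℤ)
    obtain ⟨e2⟩ := nonempty_HModF_iso' A X M p
    exact ⟨(e1 ≪≫ e2.symm).toLinearEquiv⟩
  · obtain ⟨e1⟩ := hh i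
    haveI := isGE_rgammaA_inD f M
    exact IsZero.of_iso (DerivedCategory.isZero_of_isGE _ 0 i hi) e1

/-- **Künneth formula** for the cohomology modules of quasi-coherent modules on quasi-compact
schemes over `Spec A` (the first with affine diagonal, the second quasi-separated), the first
module being flat over `A` with flat cohomology; as an `A`-linear equivalence -/
theorem nonempty_kunneth_HH'
    (F₁ : X₁.Modules) [Coh.IsQCoh F₁] (F₂ : X₂.Modules) [Coh.IsQCoh F₂]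
    (hfl : FlatMod.IsFlatOver (X₁ ↘ Spec (CommRingCat.of A)) F₁)
    (hH : ∀ p : ℕ, Module.Flat A (Coh.HH X₁ F₁ p)) (n : ℕ) :
    letI : (pullback (X₁ ↘ Spec (CommRingCat.of A)) (X₂ ↘ Spec (CommRingCat.of A))).Over
        (Spec (CommRingCat.of A)) :=
      ⟨pullback.fst (X₁ ↘ Spec (CommRingCat.of A)) (X₂ ↘ Spec (CommRingCat.of A)) ≫
        (X₁ ↘ Spec (CommRingCat.of A))⟩
    Nonempty ((Π p : Fin (n + 1), TensorProduct A (Coh.HH X₁ F₁ (p : ℕ))
        (Coh.HH X₂ F₂ (n - (p : ℕ)))) ≃ₗ[A]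
      Coh.HH (pullback (X₁ ↘ Spec (CommRingCat.of A)) (X₂ ↘ Spec (CommRingCat.of A)))
        (CohB1.tensorMod
          ((Scheme.Modules.pullback (pullback.fst (X₁ ↘ Spec (CommRingCat.of A))
            (X₂ ↘ Spec (CommRingCat.of A)))).obj F₁)
          ((Scheme.Modules.pullback (pullback.snd (X₁ ↘ Spec (CommRingCat.of A))
            (X₂ ↘ Spec (CommRingCat.of A)))).obj F₂)) n) := by
  classical
  haveI : QuasiSeparated (X₁ ↘ Spec (CommRingCat.of A)) :=
    Groth.Agent.Lib.Helper5.KunAD.quasiSeparated _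
  let f₁ := X₁ ↘ Spec (CommRingCat.of A)
  let f₂ := X₂ ↘ Spec (CommRingCat.of A)
  let p₁ := pullback.fst f₁ f₂
  let p₂ := pullback.snd f₁ f₂
  let f₁₂ : pullback f₁ f₂ ⟶ Spec (CommRingCat.of A) := p₁ ≫ f₁
  letI iO : (pullback f₁ f₂).Over (Spec (CommRingCat.of A)) := ⟨f₁₂⟩
  haveI : QuasiCompact (pullback f₁ f₂ ↘ Spec (CommRingCat.of A)) :=
    (inferInstance : QuasiCompact (p₁ ≫ f₁))
  haveI : QuasiSeparated (pullback f₁ f₂ ↘ Spec (CommRingCat.of A)) :=
    (inferInstance : QuasiSeparated (p₁ ≫ f₁))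
  haveI hΓ₁ : HTor.HasRΓA f₁ := hasRightDerivedFunctor (HTor.gammaAKh f₁)
  haveI hΓ₂ : HTor.HasRΓA f₂ := hasRightDerivedFunctor (HTor.gammaAKh f₂)
  haveI hΓ₁₂ : HTor.HasRΓA (p₁ ≫ f₁) := hasRightDerivedFunctor (HTor.gammaAKh (p₁ ≫ f₁))
  haveI hΓ₁₂' : HTor.HasRΓA (pullback f₁ f₂ ↘ Spec (CommRingCat.of A)) := hΓ₁₂
  let T : (pullback f₁ f₂).Modules := CohB1.tensorMod ((Scheme.Modules.pullback p₁).obj F₁)
    ((Scheme.Modules.pullback p₂).obj F₂)
  haveI : ((Scheme.Modules.pullback p₁).obj F₁).IsQuasicoherent :=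
    Groth.Agent.Helper1.QcPullGen.isQuasicoherent_pullback p₁ F₁
  haveI : ((Scheme.Modules.pullback p₂).obj F₂).IsQuasicoherent :=
    Groth.Agent.Helper1.QcPullGen.isQuasicoherent_pullback p₂ F₂
  haveI : T.IsQuasicoherent := Groth.Agent.Lead.TilT.isQuasicoherent_tensorMod _ _
  obtain ⟨L₁, c₁, hc₁, hproj₁, ⟨e₁⟩, hhom₁, hneg₁⟩ := exists_proj_computes' A X₁ F₁
  obtain ⟨L₂, c₂, hc₂, hproj₂, ⟨e₂⟩, hhom₂, hneg₂⟩ := exists_proj_computes' A X₂ F₂
  -- the tensor product computes the cohomology of the external product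
  let s₁ : DCoh.inD X₁ F₁ ≅ DCoh.toD X₁ (sgl F₁) :=
    (DerivedCategory.singleFunctorIsoCompQ X₁.Modules 0).app F₁
  let s₂ : DCoh.inD X₂ F₂ ≅ DCoh.toD X₂ (sgl F₂) :=
    (DerivedCategory.singleFunctorIsoCompQ X₂.Modules 0).app F₂
  let s₁₂ : DCoh.inD (pullback f₁ f₂) T ≅ DCoh.toD (pullback f₁ f₂) (sgl T) :=
    (DerivedCategory.singleFunctorIsoCompQ (pullback f₁ f₂).Modules 0).app T
  have hq₁ : ∀ i : ℤ, Coh.IsQCoh ((sgl F₁).X i) := by
    intro i
    by_cases hi : i = 0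
    · subst hi
      exact Groth.Agent.Helper1.QcAbel.isQuasicoherent_of_iso
        (singleObjXSelf (ComplexShape.up ℤ) 0 F₁).symm
    · exact Groth.Agent.Helper1.QcAbel.isQuasicoherent_of_isZero (isZero_sgl_X F₁ i hi)
  have hq₂ : ∀ i : ℤ, Coh.IsQCoh ((sgl F₂).X i) := by
    intro i
    by_cases hi : i = 0
    · subst hi
      exact Groth.Agent.Helper1.QcAbel.isQuasicoherent_of_iso
        (singleObjXSelf (ComplexShape.up ℤ) 0 F₂).symm
    · exact Groth.Agent.Helper1.QcAbel.isQuasicoherent_of_isZero (isZero_sgl_X F₂ i hi)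
  have hfl' : ∀ i : ℤ, FlatMod.IsFlatOver f₁ ((sgl F₁).X i) := by
    intro i
    by_cases hi : i = 0
    · subst hi
      exact Groth.Agent.Lib.Helper5.FlatSingle.isFlatOver_of_iso f₁
        (singleObjXSelf (ComplexShape.up ℤ) 0 F₁).symm hfl
    · exact Groth.Agent.Lib.Helper5.FlatSingle.isFlatOver_of_isZero f₁ (isZero_sgl_X F₁ i hi)
  have hcomp := computes_kunneth' A X₁ X₂ f₁ f₂ (sgl F₁) (sgl F₂) hq₁ hq₂
    ⟨0, fun i hi => isZero_sgl_X F₁ i (by omega)⟩ ⟨0, fun i hi => isZero_sgl_X F₂ i (by omega)⟩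
    hfl' L₁ L₂ hproj₁ hproj₂ ⟨c₁, hc₁⟩ ⟨c₂, hc₂⟩
    ⟨e₁ ≪≫ (HTor.RΓA f₁).mapIso s₁⟩ ⟨e₂ ≪≫ (HTor.RΓA f₂).mapIso s₂⟩
  obtain ⟨e₁₂⟩ := hcomp
  let e₁₂' : DRing.toD (HTor.tensorCx L₁ L₂) ≅
      (HTor.RΓA (p₁ ≫ f₁)).obj (DCoh.inD (pullback f₁ f₂) T) :=
    e₁₂ ≪≫ (HTor.RΓA (p₁ ≫ f₁)).mapIso
      (DerivedCategory.Q.mapIso (extTensorSglIso f₁ f₂ F₁ F₂) ≪≫ s₁₂.symm)
  obtain ⟨b₁₂⟩ := nonempty_HModF_iso' A (pullback f₁ f₂) T n
  let E1 : (HTor.tensorCx L₁ L₂).homology (n : ℤ) ≅ (HModF A (pullback f₁ f₂) n).obj T :=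
    ((DerivedCategory.homologyFunctorFactors (ModuleCat.{u} A) (n : ℤ)).app
      (HTor.tensorCx L₁ L₂)).symm ≪≫
    (DerivedCategory.homologyFunctor (ModuleCat.{u} A) (n : ℤ)).mapIso e₁₂' ≪≫ b₁₂.symm
  let E1' : (HTor.tensorCx L₁ L₂).homology (n : ℤ) ≃ₗ[A] Coh.HH (pullback f₁ f₂) T n :=
    E1.toLinearEquiv
  -- the algebraic Künneth formula
  have hflat : ∀ i : ℤ, Module.Flat A (L₁.homology i) := by
    intro i
    by_cases hi : i < 0
    · haveI : Subsingleton (L₁.homology i) := ModuleCat.subsingleton_of_isZero (hneg₁ i hi)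
      infer_instance
    · obtain ⟨p, rfl⟩ : ∃ p : ℕ, i = (p : ℤ) := ⟨i.toNat, by omega⟩
      obtain ⟨l⟩ := hhom₁ p
      haveI := hH p
      exact Module.Flat.of_linearEquiv l
  have hbij := Groth.Agent.Helper3.Kun.kunneth_bijective_of_flat L₁
    (Groth.Agent.Helper5.TorAmp.termwiseFlat_of_projective L₁ hproj₁) hc₁ hc₂ hflat (n : ℤ)
  let E2 : HTor.KunnethSum L₁ L₂ (n : ℤ) ≃ₗ[A] (HTor.tensorCx L₁ L₂).homology (n : ℤ) :=
    LinearEquiv.ofBijective _ hbij
  -- reindexing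
  let emb : Fin (n + 1) → HTor.Antidiag (n : ℤ) := fun p =>
    ⟨(((p : ℕ) : ℤ), ((n - (p : ℕ) : ℕ) : ℤ)), by
      have := p.2
      change ((p : ℕ) : ℤ) + ((n - (p : ℕ) : ℕ) : ℤ) = (n : ℤ)
      omega⟩
  have hemb : Function.Injective emb := by
    intro a b hab
    have h1 : (((a : ℕ) : ℤ), ((n - (a : ℕ) : ℕ) : ℤ)) = (((b : ℕ) : ℤ), ((n - (b : ℕ) : ℕ) : ℤ)) :=
      congrArg Subtype.val hab
    have h2 : ((a : ℕ) : ℤ) = ((b : ℕ) : ℤ) := (Prod.ext_iff.1 h1).1
    apply Fin.ext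
    exact_mod_cast h2
  have hout : ∀ ij : HTor.Antidiag (n : ℤ), ij ∉ Set.range emb →
      Subsingleton (TensorProduct A (L₁.homology ij.1.1) (L₂.homology ij.1.2)) := by
    intro ij hij
    by_cases h1 : ij.1.1 < 0
    · haveI : Subsingleton (L₁.homology ij.1.1) := ModuleCat.subsingleton_of_isZero (hneg₁ _ h1)
      infer_instance
    · by_cases h2 : ij.1.2 < 0
      · haveI : Subsingleton (L₂.homology ij.1.2) :=
          ModuleCat.subsingleton_of_isZero (hneg₂ _ h2)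
        infer_instance
      · exfalso
        apply hij
        have hs : ij.1.1 + ij.1.2 = (n : ℤ) := ij.2
        refine ⟨⟨ij.1.1.toNat, by omega⟩, ?_⟩
        apply Subtype.ext
        apply Prod.ext
        · change ((ij.1.1.toNat : ℕ) : ℤ) = ij.1.1
          omega
        · change ((n - ij.1.1.toNat : ℕ) : ℤ) = ij.1.2
          omega
  obtain ⟨E3⟩ := nonempty_directSum_linearEquiv_pi (R := A)
    (fun ij : HTor.Antidiag (n : ℤ) => TensorProduct A (L₁.homology ij.1.1) (L₂.homology ij.1.2))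
    (fun p : Fin (n + 1) => TensorProduct A (Coh.HH X₁ F₁ (p : ℕ)) (Coh.HH X₂ F₂ (n - (p : ℕ))))
    emb hemb hout
    (fun p => TensorProduct.congr (hhom₁ (p : ℕ)).some (hhom₂ (n - (p : ℕ))).some)
  exact ⟨E3.symm.trans (E2.trans E1')⟩

end Main

end Groth.Agent.Lib.Helper5.KunAD
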